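import Groth.Agent.Lib.GITQuot.Basic
import Mathlib.AlgebraicGeometry.AffineScheme

/-!
# Descent of invariant morphisms along the quotient map of an affine scheme
-/

set_option autoImplicit false
set_option linter.style.haveILetI false
universe u

open CategoryTheory Limits AlgebraicGeometry TopologicalSpace Opposite

noncomputable section

namespace Groth.Agent.CatQuot23

variable {X : Scheme.{u}} [IsAffine X]

theorem exists_num {W : X.Opens} (f : Γ(X, ⊤)) (hW : W = X.basicOpen f) (z : Γ(X, W)) :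
    ∃ (n : ℕ) (b : Γ(X, ⊤)), z * X.presheaf.map (homOfLE le_top : W ⟶ ⊤).op f ^ n =
      X.presheaf.map (homOfLE le_top : W ⟶ ⊤).op b := by
  subst hW
  haveI := isLocalization_away_of_isAffine f
  obtain ⟨⟨b, ⟨_, n, rfl⟩⟩, h⟩ := IsLocalization.surj (Submonoid.powers f) z
  exact ⟨n, b, by rw [← map_pow]; exact h⟩

theorem exists_kill {W : X.Opens} (f : Γ(X, ⊤)) (hW : W = X.basicOpen f) {b : Γ(X, ⊤)}
    (hb : X.presheaf.map (homOfLE le_top : W ⟶ ⊤).op b = 0) : ∃ m : ℕ, f ^ m * b = 0 := by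
  subst hW
  haveI := isLocalization_away_of_isAffine f
  have h : algebraMap Γ(X, ⊤) Γ(X, X.basicOpen f) b = algebraMap Γ(X, ⊤) Γ(X, X.basicOpen f) 0 := by
    rw [map_zero]; exact hb
  obtain ⟨⟨_, m, rfl⟩, hm⟩ := (IsLocalization.eq_iff_exists (Submonoid.powers f) _).mp h
  exact ⟨m, by simpa using hm⟩

theorem isUnit_res {W : X.Opens} (f : Γ(X, ⊤)) (hW : W = X.basicOpen f) :
    IsUnit (X.presheaf.map (homOfLE le_top : W ⟶ ⊤).op f) := by
  subst hW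
  haveI := isLocalization_away_of_isAffine f
  exact IsLocalization.map_units _ (⟨f, Submonoid.mem_powers f⟩ : Submonoid.powers f)

variable {Y W : Scheme.{u}} [IsAffine Y] [IsAffine W] (q : X ⟶ Y) (p₁ p₂ : W ⟶ X)

theorem res_naturality {X' Y' : Scheme.{u}} (f : X' ⟶ Y') (U : Y'.Opens) (V : X'.Opens) (e : V ≤ f ⁻¹ᵁ U)
    (b : Γ(Y', ⊤)) :
    f.appLE U V e (Y'.presheaf.map (homOfLE le_top : U ⟶ ⊤).op b) =
      X'.presheaf.map (homOfLE le_top : V ⟶ ⊤).op (f.appTop b) := by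
  rw [← CommRingCat.comp_apply, Scheme.Hom.map_appLE, ← CommRingCat.comp_apply]
  rfl

theorem injective_app_basicOpen (hinj : Function.Injective q.appTop) (c : Γ(Y, ⊤)) :
    Function.Injective (q.app (Y.basicOpen c)) := by
  intro z z' h
  rw [← sub_eq_zero, ← map_sub] at h
  rw [← sub_eq_zero]
  generalize z - z' = z at h
  obtain ⟨n, b, hb⟩ := exists_num c rfl z
  have h1 : q.app (Y.basicOpen c) (Y.presheaf.map (homOfLE le_top : Y.basicOpen c ⟶ ⊤).op b) = 0 := by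
    rw [← hb, map_mul, h, zero_mul]
  rw [← Scheme.Hom.appLE_eq_app, res_naturality] at h1
  obtain ⟨m, hm⟩ := exists_kill (q.appTop c) (Scheme.preimage_basicOpen_top q c) h1
  have h2 : c ^ m * b = 0 := hinj (by rw [map_mul, map_pow, hm, map_zero])
  have hu := (isUnit_res c (W := Y.basicOpen c) rfl)
  have h3 := congrArg (Y.presheaf.map (homOfLE le_top : Y.basicOpen c ⟶ ⊤).op) h2
  rw [map_mul, map_pow, map_zero, ← hb, mul_comm z, ← mul_assoc, ← pow_add] at h3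
  exact (hu.pow (m + n)).mul_right_eq_zero.mp h3

theorem good (hsurj : Function.Surjective q) (hinj : Function.Injective q.appTop) : GITQuot.Good q := by
  refine ⟨hsurj, fun U => ?_⟩
  intro s t hst
  have hcov : ∀ y : U, ∃ c : Γ(Y, ⊤), Y.basicOpen c ≤ U ∧ (y : Y) ∈ Y.basicOpen c := fun y => by
    obtain ⟨c, hc, hy⟩ := (isAffineOpen_top Y).exists_basicOpen_le y trivial
    exact ⟨c, hc, hy⟩
  choose c hcU hcy using hcov
  refine Y.sheaf.eq_of_locally_eq' (fun y => Y.basicOpen (c y)) U (fun y => homOfLE (hcU y))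
    (fun y hy => Opens.mem_iSup.mpr ⟨⟨y, hy⟩, hcy ⟨y, hy⟩⟩) s t fun y => ?_
  apply injective_app_basicOpen q hinj (c y)
  show (Y.presheaf.map (homOfLE (hcU y)).op ≫ q.app (Y.basicOpen (c y))) s =
    (Y.presheaf.map (homOfLE (hcU y)).op ≫ q.app (Y.basicOpen (c y))) t
  rw [q.naturality, CommRingCat.comp_apply, CommRingCat.comp_apply, hst]

theorem mem_range_app (hinv : p₁ ≫ q = p₂ ≫ q)
    (heq : ∀ b, p₁.appTop b = p₂.appTop b → b ∈ Set.range q.appTop)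
    {Z : Scheme.{u}} {ψ : X ⟶ Z} (hψ : p₁ ≫ ψ = p₂ ≫ ψ) (V : Z.Opens) (c : Γ(Y, ⊤))
    (e : q ⁻¹ᵁ Y.basicOpen c ≤ ψ ⁻¹ᵁ V) (s : Γ(Z, V)) :
    ψ.appLE V (q ⁻¹ᵁ Y.basicOpen c) e s ∈ Set.range (q.app (Y.basicOpen c)) := by
  set D := q ⁻¹ᵁ Y.basicOpen c
  have hD : D = X.basicOpen (q.appTop c) := Scheme.preimage_basicOpen_top q c
  obtain ⟨n, b, hb⟩ := exists_num (q.appTop c) hD (ψ.appLE V D e s)
  have hW : p₂ ⁻¹ᵁ D = p₁ ⁻¹ᵁ D := by
    rw [show D = q ⁻¹ᵁ Y.basicOpen c from rfl, ← Scheme.Hom.comp_preimage, ← Scheme.Hom.comp_preimage, hinv]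
  set E := p₁ ⁻¹ᵁ D
  have hc : p₁.appTop (q.appTop c) = p₂.appTop (q.appTop c) := by
    rw [← CommRingCat.comp_apply, ← CommRingCat.comp_apply, ← Scheme.Hom.comp_appTop,
      ← Scheme.Hom.comp_appTop, hinv]
  have hE : E = W.basicOpen (p₁.appTop (q.appTop c)) := by
    show p₁ ⁻¹ᵁ D = _
    rw [hD, Scheme.preimage_basicOpen_top]
  have hkey : p₁.appLE D E le_rfl (ψ.appLE V D e s) = p₂.appLE D E hW.ge (ψ.appLE V D e s) := by
    rw [← CommRingCat.comp_apply, ← CommRingCat.comp_apply, Scheme.Hom.appLE_comp_appLE,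
      Scheme.Hom.appLE_comp_appLE]
    simp only [hψ]
  have h1 := congrArg (p₁.appLE D E le_rfl) hb
  have h2 := congrArg (p₂.appLE D E hW.ge) hb
  rw [map_mul, map_pow, res_naturality, res_naturality] at h1 h2
  rw [← hkey, ← hc, h1] at h2
  have h0 : W.presheaf.map (homOfLE le_top : E ⟶ ⊤).op (p₁.appTop b - p₂.appTop b) = 0 := by
    rw [map_sub, sub_eq_zero]; exact h2
  obtain ⟨m, hm⟩ := exists_kill _ hE h0
  obtain ⟨x, hx⟩ := heq (q.appTop c ^ m * b) (by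
    rw [map_mul, map_mul, map_pow, map_pow, ← hc, ← sub_eq_zero, ← mul_sub, hm])
  have hu : IsUnit (Y.presheaf.map (homOfLE le_top : Y.basicOpen c ⟶ ⊤).op c) := isUnit_res c rfl
  obtain ⟨v, hv⟩ := (hu.pow (n + m)).exists_left_inv
  refine ⟨v * Y.presheaf.map (homOfLE le_top : Y.basicOpen c ⟶ ⊤).op x, ?_⟩
  have hq : ∀ t, q.app (Y.basicOpen c) (Y.presheaf.map (homOfLE le_top : Y.basicOpen c ⟶ ⊤).op t) =
      X.presheaf.map (homOfLE le_top : D ⟶ ⊤).op (q.appTop t) := fun t => by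
    rw [← Scheme.Hom.appLE_eq_app, res_naturality]
  have hv' := congrArg (q.app (Y.basicOpen c)) hv
  rw [map_mul, map_pow, map_one, hq] at hv'
  rw [map_mul, hq, hx, map_mul, map_pow, ← hb]
  linear_combination (ψ.appLE V D e s) * hv'

theorem exists_local (hinj : Function.Injective q.appTop) (hinv : p₁ ≫ q = p₂ ≫ q)
    (heq : ∀ b, p₁.appTop b = p₂.appTop b → b ∈ Set.range q.appTop)
    {Z : Scheme.{u}} {ψ : X ⟶ Z} (hψ : p₁ ≫ ψ = p₂ ≫ ψ) {V : Z.Opens} (hV : IsAffineOpen V) (c : Γ(Y, ⊤))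
    (e : q ⁻¹ᵁ Y.basicOpen c ≤ ψ ⁻¹ᵁ V) :
    ∃ g : (Y.basicOpen c).toScheme ⟶ Z, q ∣_ Y.basicOpen c ≫ g = (q ⁻¹ᵁ Y.basicOpen c).ι ≫ ψ := by
  let U := Y.basicOpen c
  let π := ψ.appLE V (q ⁻¹ᵁ U) e
  have hmem : ∀ s, π s ∈ (q.app U).hom.range := fun s => mem_range_app q p₁ p₂ hinv heq hψ V c e s
  let eU := RingEquiv.ofBijective (q.app U).hom.rangeRestrict
    ⟨fun x y hxy => injective_app_basicOpen q hinj c (congrArg Subtype.val hxy),
      (q.app U).hom.rangeRestrict_surjective⟩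
  let ρ : Γ(Z, V) ⟶ Γ(Y, U) := CommRingCat.ofHom (eU.symm.toRingHom.comp (π.hom.codRestrict _ hmem))
  have hρ : ρ ≫ q.app U = π := by
    ext s
    exact congrArg Subtype.val (eU.apply_symm_apply ⟨π s, hmem s⟩)
  refine ⟨U.toSpecΓ ≫ Spec.map ρ ≫ hV.fromSpec, ?_⟩
  rw [← Scheme.Opens.toSpecΓ_naturality_assoc, ← Spec.map_comp_assoc, hρ]
  show _ ≫ Spec.map (ψ.appLE V (q ⁻¹ᵁ U) e) ≫ _ = _
  rw [Scheme.Opens.toSpecΓ_SpecMap_appLE_assoc, hV.toSpecΓ_fromSpec, Scheme.Hom.resLE_comp_ι]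

theorem existsUnique_desc (hsurj : Function.Surjective q) (hinj : Function.Injective q.appTop)
    (hinv : p₁ ≫ q = p₂ ≫ q) (heq : ∀ b, p₁.appTop b = p₂.appTop b → b ∈ Set.range q.appTop)
    {Z : Scheme.{u}} (ψ : X ⟶ Z) (hψ : p₁ ≫ ψ = p₂ ≫ ψ)
    (hc : ∀ y : Y, ∃ (c : Γ(Y, ⊤)) (V : Z.Opens), IsAffineOpen V ∧ y ∈ Y.basicOpen c ∧
      q ⁻¹ᵁ Y.basicOpen c ≤ ψ ⁻¹ᵁ V) :
    ∃! χ : Y ⟶ Z, q ≫ χ = ψ := by
  have hgood := good q hsurj hinj
  choose c V hV hyc hcV using hc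
  choose g hg using fun y => exists_local q p₁ p₂ hinj hinv heq hψ (hV y) (c y) (hcV y)
  let 𝒰 : Y.OpenCover := Scheme.Cover.mkOfCovers Y (fun y => (Y.basicOpen (c y)).toScheme)
    (fun y => (Y.basicOpen (c y)).ι) (fun y => ⟨y, ⟨y, hyc y⟩, rfl⟩) (fun y => inferInstance)
  have key : ∀ (i : Y) {T : Scheme.{u}} (t : T ⟶ (Y.basicOpen (c i)).toScheme) (x : T ⟶ X),
      x ≫ q = t ≫ (Y.basicOpen (c i)).ι → t ≫ g i = x ≫ ψ := by
    intro i T t x hx
    let l : T ⟶ (q ⁻¹ᵁ Y.basicOpen (c i)).toScheme := (isPullback_morphismRestrict q _).lift t x hx.symm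
    have h1 : l ≫ q ∣_ Y.basicOpen (c i) = t := (isPullback_morphismRestrict q _).lift_fst _ _ _
    have h2 : l ≫ (q ⁻¹ᵁ Y.basicOpen (c i)).ι = x := (isPullback_morphismRestrict q _).lift_snd _ _ _
    rw [← h1, Category.assoc, hg, reassoc_of% h2]
  have hcompat : ∀ i j : 𝒰.I₀, pullback.fst (𝒰.f i) (𝒰.f j) ≫ g i = pullback.snd (𝒰.f i) (𝒰.f j) ≫ g j := by
    intro i j
    refine hgood.cancel_open (pullback.fst (𝒰.f i) (𝒰.f j) ≫ 𝒰.f i) fun {T} t x hx => ?_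
    rw [← Category.assoc, ← Category.assoc]
    exact (key i (t ≫ pullback.fst _ _) x (hx.trans (Category.assoc _ _ _).symm)).trans
      (key j (t ≫ pullback.snd _ _) x (by rw [hx, Category.assoc]; exact congrArg (t ≫ ·) pullback.condition)).symm
  have hg' : q ≫ 𝒰.glueMorphisms g hcompat = ψ := by
    refine Scheme.Cover.hom_ext (𝒰.pullback₁ q) _ _ fun i => ?_
    show pullback.fst q (𝒰.f i) ≫ _ = pullback.fst q (𝒰.f i) ≫ _
    rw [← Category.assoc, pullback.condition, Category.assoc, Scheme.Cover.ι_glueMorphisms]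
    exact key i _ _ pullback.condition
  exact ⟨_, hg', fun χ hχ => hgood.cancel (hχ.trans hg'.symm)⟩

end Groth.Agent.CatQuot23
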